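import Groth.Agent.Lib.RedPts.Ga
import Mathlib.AlgebraicGeometry.AffineSpace
import Mathlib.AlgebraicGeometry.ResidueField
import Mathlib.Algebra.MvPolynomial.Nilpotent

/-!
Invertible functions on affine space over a reduced scheme.
-/

universe u

open CategoryTheory AlgebraicGeometry MonObj CartesianMonoidalCategory

namespace GrothLib.GaUnits

theorem ext_of_points {Y : Scheme.{u}} [IsReduced Y] {f g : Γ(Y, ⊤)}
    (h : ∀ (K : Type u) [Field K] (P : Spec (CommRingCat.of K) ⟶ Y), P.appTop f = P.appTop g) : f = g := by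
  rw [← sub_eq_zero]
  apply eq_zero_of_basicOpen_eq_bot
  refine eq_bot_iff.2 fun y hy => ?_
  obtain ⟨s⟩ : Nonempty (Spec (Y.residueField y) : Scheme.{u}) := inferInstance
  have hs : s ∈ (Y.fromSpecResidueField y) ⁻¹ᵁ Y.basicOpen (f - g) := by
    change Y.fromSpecResidueField y s ∈ Y.basicOpen (f - g)
    rwa [Scheme.fromSpecResidueField_apply]
  rw [Scheme.preimage_basicOpen_top, map_sub, h (Y.residueField y) (Y.fromSpecResidueField y), sub_self,
    Scheme.basicOpen_zero] at hs
  exact hs.elim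

/-- A unit on affine space over a field is constant along the evaluations. -/
theorem eval_unit {K : Type u} [Field K] {n : Type u} (w : Γ(Spec (CommRingCat.of (MvPolynomial n K)), ⊤))
    (hw : IsUnit w) (a b : n → K) :
    (Spec.map (CommRingCat.ofHom (MvPolynomial.eval a))).appTop w =
      (Spec.map (CommRingCat.ofHom (MvPolynomial.eval b))).appTop w := by
  obtain ⟨P, rfl⟩ := (ConcreteCategory.bijective_of_isIso (Scheme.ΓSpecIso (CommRingCat.of (MvPolynomial n K))).inv).2 w
  have h : ∀ c : n → K, (Spec.map (CommRingCat.ofHom (MvPolynomial.eval c))).appTop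
      ((Scheme.ΓSpecIso (CommRingCat.of (MvPolynomial n K))).inv P) =
      (Scheme.ΓSpecIso (CommRingCat.of K)).inv (MvPolynomial.eval c P) := fun c =>
    (congr($(Scheme.ΓSpecIso_inv_naturality (CommRingCat.ofHom (MvPolynomial.eval c))).hom P)).symm
  have hP : IsUnit P := by
    have := hw.map (Scheme.ΓSpecIso (CommRingCat.of (MvPolynomial n K))).hom.hom
    simpa using this
  obtain ⟨r, -, rfl⟩ := MvPolynomial.isUnit_iff_eq_C_of_isReduced.1 hP
  rw [h, h]
  simp

theorem appTop_coord_line {K : Type u} [Field K] {n : Type u} (a : n → K) (i : n) :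
    (Spec.map (CommRingCat.ofHom (MvPolynomial.eval a))).appTop
      ((Scheme.ΓSpecIso (CommRingCat.of (MvPolynomial n K))).inv (MvPolynomial.X i)) =
      (Scheme.ΓSpecIso (CommRingCat.of K)).inv (a i) := by
  exact (congr($(Scheme.ΓSpecIso_inv_naturality (CommRingCat.ofHom (MvPolynomial.eval a))).hom
    (MvPolynomial.X i))).symm.trans (congrArg (Scheme.ΓSpecIso (CommRingCat.of K)).inv.hom (MvPolynomial.eval_X i))

theorem specMap_eval_C {K : Type u} [Field K] {n : Type u} (a : n → K) :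
    Spec.map (CommRingCat.ofHom (MvPolynomial.eval a)) ≫
      Spec.map (CommRingCat.ofHom (MvPolynomial.C : K →+* MvPolynomial n K)) = 𝟙 _ := by
  rw [← Spec.map_comp, ← Spec.map_id]
  congr 1
  ext c
  simp

/-- Invertible functions on affine space over a reduced scheme come from the base. -/
theorem exists_unit {n : Type u} (X : Scheme.{u}) [IsReduced X] (w : Γ(𝔸(n; X), ⊤)) (hw : IsUnit w) :
    ∃ v : Γ(X, ⊤), IsUnit v ∧ (𝔸(n; X) ↘ X).appTop v = w := by
  let s : X ⟶ 𝔸(n; X) := AffineSpace.homOfVector (𝟙 X) 0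
  refine ⟨s.appTop w, hw.map _, ext_of_points fun K _ P => ?_⟩
  let y : Spec (CommRingCat.of K) ⟶ X := P ≫ (𝔸(n; X) ↘ X)
  let gK := (Scheme.ΓSpecIso (CommRingCat.of K)).inv
  let gP := (Scheme.ΓSpecIso (CommRingCat.of (MvPolynomial n K))).inv
  let Q : Spec (CommRingCat.of (MvPolynomial n K)) ⟶ 𝔸(n; X) :=
    AffineSpace.homOfVector (Spec.map (CommRingCat.ofHom (MvPolynomial.C : K →+* MvPolynomial n K)) ≫ y)
      fun i => gP (MvPolynomial.X i)
  have hQ : ∀ a : n → K, Spec.map (CommRingCat.ofHom (MvPolynomial.eval a)) ≫ Q =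
      AffineSpace.homOfVector y fun i => gK (a i) := by
    intro a
    rw [AffineSpace.comp_homOfVector, ← Category.assoc, specMap_eval_C, Category.id_comp]
    congr 1
    funext i
    exact appTop_coord_line a i
  obtain ⟨a, ha⟩ : ∃ a : n → K, (fun i => gK (a i)) = fun i => P.appTop (AffineSpace.coord X i) := by
    choose a ha using fun i => (ConcreteCategory.bijective_of_isIso gK).2 (P.appTop (AffineSpace.coord X i))
    exact ⟨a, funext ha⟩
  have hP : P = Spec.map (CommRingCat.ofHom (MvPolynomial.eval a)) ≫ Q := by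
    rw [hQ, ha]
    refine AffineSpace.hom_ext (by rw [AffineSpace.homOfVector_over]) fun i => ?_
    rw [AffineSpace.homOfVector_appTop_coord]
  have hs : y ≫ s = Spec.map (CommRingCat.ofHom (MvPolynomial.eval (0 : n → K))) ≫ Q := by
    rw [hQ, AffineSpace.comp_homOfVector, Category.comp_id]
    congr 1
    funext i
    simp [gK]
  have key := eval_unit (Q.appTop w) (hw.map _) (0 : n → K) a
  simp only [← CommRingCat.comp_apply, ← Scheme.Hom.comp_appTop] at key ⊢
  rw [← Category.assoc, hs, key]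
  exact congrArg (fun m => (Scheme.Hom.appTop m) w) hP.symm

variable {S : Scheme.{u}}

theorem gaFn_one (T : Over S) : Red.gaFn (1 : T ⟶ Red.Ga S) = 0 := by
  have h1 : lift (1 : T ⟶ Red.Ga S) 1 ≫ μ[Red.Ga S] = 1 := by
    rw [Hom.one_def, lift_comp_one_right]
  have h := RedPts.gaFn_mul (1 : T ⟶ Red.Ga S) 1
  rw [show ((1 : T ⟶ Red.Ga S) * 1) = 1 from h1] at h
  exact left_eq_add.1 h

/-- The additive group is the affine line. -/
theorem isReduced_Ga (S : Scheme.{u}) [IsReduced S] : IsReduced (Red.Ga S).left := by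
  let e : (Red.Ga S).left ⟶ 𝔸(PUnit.{u + 1}; S) :=
    AffineSpace.homOfVector (Red.Ga S).hom fun _ => Red.gaFn (𝟙 (Red.Ga S))
  let d : (𝔸(PUnit.{u + 1}; S)).asOver S ⟶ Red.Ga S := RedPts.gaPt (AffineSpace.coord S PUnit.unit)
  have hd : Red.gaFn d = AffineSpace.coord S PUnit.unit := RedPts.gaFn_gaPt _
  let e' : Red.Ga S ⟶ (𝔸(PUnit.{u + 1}; S)).asOver S := Over.homMk e (AffineSpace.homOfVector_over _ _)
  have he : e' ≫ d = 𝟙 _ := RedPts.gaFn_injective (by
    rw [RedPts.gaFn_comp, hd]
    exact AffineSpace.homOfVector_appTop_coord _ _ _)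
  have hi : d.left ≫ e = 𝟙 _ := by
    refine AffineSpace.hom_ext ((Category.assoc _ _ _).trans ((congrArg (d.left ≫ ·) (AffineSpace.homOfVector_over _ _)).trans
      ((Over.w d).trans (Category.id_comp _).symm)))
      fun i => ?_
    rw [Scheme.Hom.comp_appTop, CommRingCat.comp_apply, AffineSpace.homOfVector_appTop_coord, ← RedPts.gaFn_comp,
      Category.comp_id, hd]
    rfl
  haveI : IsIso e := ⟨d.left, congrArg (·.left) he, hi⟩
  exact isReduced_of_isOpenImmersion e

/-- There are no non-trivial homomorphisms from the additive to the multiplicative group over a reduced base. -/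
theorem hom_eq_one [IsReduced S] (φ : Red.Ga S ⟶ Red.Gm S) [IsMonHom φ] : φ = 1 := by
  haveI := isReduced_Ga S
  refine GmPts.gmFn_injective ?_
  change Red.gmFn φ = Red.gmFn 1
  rw [GmPts.gmFn_one]
  refine ext_of_points fun K _ P => ?_
  let T : Over S := Over.mk (P ≫ (Red.Ga S).hom)
  let x : T ⟶ Red.Ga S := Over.homMk P rfl
  let T' : Over S := Over.mk (Spec.map (CommRingCat.ofHom (MvPolynomial.C : K →+* MvPolynomial PUnit.{u + 1} K)) ≫ T.hom)
  let z : T' ⟶ Red.Ga S := RedPts.gaPt ((Scheme.ΓSpecIso (CommRingCat.of (MvPolynomial PUnit.{u + 1} K))).inv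
    (MvPolynomial.X PUnit.unit))
  let ev : (PUnit.{u + 1} → K) → (T ⟶ T') := fun a => Over.homMk (Spec.map (CommRingCat.ofHom (MvPolynomial.eval a))) (by
    change Spec.map (CommRingCat.ofHom (MvPolynomial.eval a)) ≫ Spec.map (CommRingCat.ofHom MvPolynomial.C) ≫ T.hom = T.hom
    rw [← Category.assoc, specMap_eval_C, Category.id_comp])
  have hz : ∀ a, Red.gaFn (ev a ≫ z) = (Scheme.ΓSpecIso (CommRingCat.of K)).inv (a PUnit.unit) := fun a => by
    rw [RedPts.gaFn_comp, RedPts.gaFn_gaPt]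
    exact appTop_coord_line a _
  have hev : ∀ a, Red.gmFn (ev a ≫ z ≫ φ) =
      (Spec.map (CommRingCat.ofHom (MvPolynomial.eval a))).appTop (Red.gmFn (z ≫ φ)) := fun a =>
    GmPts.gmFn_comp (ev a) (z ≫ φ)
  obtain ⟨a, ha⟩ := (ConcreteCategory.bijective_of_isIso (Scheme.ΓSpecIso (CommRingCat.of K)).inv).2 (Red.gaFn x)
  have hx : ev (fun _ => a) ≫ z = x := RedPts.gaFn_injective ((hz _).trans ha)
  have h0 : ev 0 ≫ z = 1 := RedPts.gaFn_injective ((hz _).trans (by rw [gaFn_one]; simp))
  have key : Red.gmFn (x ≫ φ) = 1 := by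
    rw [← hx, Category.assoc, hev, eval_unit (Red.gmFn (z ≫ φ)) (GmPts.unitOfPt (z ≫ φ)).isUnit _ 0, ← hev, ← Category.assoc, h0]
    exact (congrArg Red.gmFn (MonObj.one_comp (f := φ))).trans GmPts.gmFn_one
  rw [GmPts.gmFn_comp] at key
  rw [map_one]
  exact key

end GrothLib.GaUnits
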